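import Groth.Agent.Lib.BiextSeq8.Fib
import Groth.Agent.Lib.GaExt23.DualExact

/-!
# Trivialisations of the fibres of a biextension with values in an injective sheaf
-/

set_option autoImplicit false
set_option linter.style.haveILetI false
set_option linter.unusedSectionVars false
set_option maxHeartbeats 800000
set_option backward.isDefEq.respectTransparency false
set_option backward.isDefEq.respectTransparency.types false

universe u

open CategoryTheory CategoryTheory.Limits Opposite

noncomputable section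

namespace Groth.Agent.BiextSeq8

variable {C : Type (u + 1)} [Category.{u} C] {J : GrothendieckTopology C}
variable {P Q G L : Sheaf J AddCommGrpCat.{u + 1}}

/-- Value of a morphism of restrictions. -/
def appAt {T : C} (χ : Q.over T ⟶ L.over T) {U : C} (r : U ⟶ T) : Q.obj.obj (op U) →+ L.obj.obj (op U) :=
  (χ.hom.app (op (Over.mk r))).hom

theorem appAt_nat {T : C} (χ : Q.over T ⟶ L.over T) {U V : C} (g : V ⟶ U) (r : U ⟶ T) (q : Q.obj.obj (op U)) :
    L.obj.map g.op (appAt χ r q) = appAt χ (g ≫ r) (Q.obj.map g.op q) :=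
  (ConcreteCategory.congr_hom (χ.hom.naturality (Over.homMk g rfl : Over.mk (g ≫ r) ⟶ Over.mk r).op) q).symm

theorem hom_ext_at {T : C} {χ χ' : Q.over T ⟶ L.over T}
    (h : ∀ (U : C) (r : U ⟶ T) (q : Q.obj.obj (op U)), appAt χ r q = appAt χ' r q) : χ = χ' :=
  Sheaf.hom_ext (NatTrans.ext (funext fun U => AddCommGrpCat.ext fun q => h U.unop.left U.unop.hom q))

/-- A functional additive relation with local values is a morphism. -/
theorem exists_hom_of_rel (T : C) (R : ∀ (U : C), (U ⟶ T) → Q.obj.obj (op U) → L.obj.obj (op U) → Prop)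
    (huniq : ∀ U r q l l', R U r q l → R U r q l' → l = l')
    (hres : ∀ (U V : C) (r : U ⟶ T) (g : V ⟶ U) q l, R U r q l → R V (g ≫ r) (Q.obj.map g.op q) (L.obj.map g.op l))
    (hloc : ∀ (U : C) (r : U ⟶ T) q, ∃ S ∈ J U, ∀ (V : C) (g : V ⟶ U), S g → ∃ l, R V (g ≫ r) (Q.obj.map g.op q) l)
    (hadd : ∀ (U : C) (r : U ⟶ T) q q' l l', R U r q l → R U r q' l' →
      ∃ S ∈ J U, ∀ (V : C) (g : V ⟶ U), S g → R V (g ≫ r) (Q.obj.map g.op (q + q')) (L.obj.map g.op (l + l'))) :
    ∃ χ : Q.over T ⟶ L.over T, ∀ U r q l, R U r q l → appAt χ r q = l := by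
  have hg : ∀ (U : C) (r : U ⟶ T) (q : Q.obj.obj (op U)), ∃ v : L.obj.obj (op U),
      ∀ (V : C) (g : V ⟶ U) (l : L.obj.obj (op V)), R V (g ≫ r) (Q.obj.map g.op q) l → L.obj.map g.op v = l := by
    intro U r q
    obtain ⟨S, hS, hl⟩ := hloc U r q
    obtain ⟨v, hv⟩ := glue (Biext.uSh J L) hS (fun V g l => R V (g ≫ r) (Q.obj.map g.op q) l)
      (fun V g l l' h h' => huniq V _ _ l l' h h')
      (fun V W g e l h => by
        have h2 := hres V W _ e _ l h
        rwa [← Category.assoc, ← mapComp] at h2)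
      hl
    refine ⟨v, fun V g l h => extG L (J.pullback_stable g hS) _ _ fun W e he => ?_⟩
    refine huniq W ((e ≫ g) ≫ r) (Q.obj.map (e ≫ g).op q) _ _ ?_ ?_
    · rw [← mapComp]; exact hv W (e ≫ g) he
    · have h2 := hres V W _ e _ l h
      rwa [← Category.assoc, ← mapComp] at h2
  choose v hv using hg
  have key : ∀ U r q l, R U r q l → v U r q = l := fun U r q l h => by
    have := hv U r q U (𝟙 U) l (by rwa [Category.id_comp, mapId])
    rwa [mapId] at this
  have hnat : ∀ (U V : C) (g : V ⟶ U) (r : U ⟶ T) (q : Q.obj.obj (op U)),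
      L.obj.map g.op (v U r q) = v V (g ≫ r) (Q.obj.map g.op q) := fun U V g r q => by
    obtain ⟨S, hS, hl⟩ := hloc V (g ≫ r) (Q.obj.map g.op q)
    refine extG L hS _ _ fun W e he => ?_
    obtain ⟨l, hl'⟩ := hl W e he
    rw [hv V _ _ W e l hl', ← mapComp]
    exact hv U r q W (e ≫ g) l (by rw [Category.assoc, mapComp]; exact hl')
  have hplus : ∀ (U : C) (r : U ⟶ T) (q q' : Q.obj.obj (op U)), v U r (q + q') = v U r q + v U r q' := by
    intro U r q q'
    obtain ⟨S, hS, hl⟩ := hloc U r q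
    obtain ⟨S', hS', hl'⟩ := hloc U r q'
    refine extG L (J.intersection_covering hS hS') _ _ fun W e he => ?_
    obtain ⟨l, h⟩ := hl W e he.1
    obtain ⟨l', h'⟩ := hl' W e he.2
    rw [map_add, hnat, hnat, hnat, key _ _ _ l h, key _ _ _ l' h']
    obtain ⟨S'', hS'', hadd'⟩ := hadd W _ _ _ l l' h h'
    refine extG L hS'' _ _ fun Z d hd => ?_
    rw [hnat]
    refine key _ _ _ _ ?_
    have h2 := hadd' Z d hd
    rwa [← map_add] at h2
  refine ⟨⟨{ app := fun U => AddCommGrpCat.ofHom (AddMonoidHom.mk' (fun q => v U.unop.left U.unop.hom q)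
                (hplus _ _))
             naturality := fun U V g => AddCommGrpCat.ext fun q => ?_ }⟩, fun U r q l h => key U r q l h⟩
  show v V.unop.left V.unop.hom (Q.obj.map g.unop.left.op q) = L.obj.map g.unop.left.op (v U.unop.left U.unop.hom q)
  rw [hnat, Over.w g.unop]

variable (B : Biext J P Q G)

/-- The fibre over `p`, a presheaf of groups over `T`. -/
def EP (T : C) (p : P.obj.obj (op T)) : (Over T)ᵒᵖ ⥤ AddCommGrpCat.{u + 1} where
  obj U := AddCommGrpCat.of (Fib B U.unop.left (P.obj.map U.unop.hom.op p))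
  map {U V} g := AddCommGrpCat.ofHom (Fib.resHom g.unop.left (by rw [← mapComp, Over.w g.unop]))
  map_id U := AddCommGrpCat.ext fun a => Fib.ext (mapId' B.E a.x)
  map_comp g h := AddCommGrpCat.ext fun a => Fib.ext (mapComp' B.E g.unop.left h.unop.left a.x)

/-- The structure group inside the fibre. -/
def iotaEP (T : C) (p : P.obj.obj (op T)) : (G.over T).obj ⟶ EP B T p where
  app U := AddCommGrpCat.ofHom Fib.ofG
  naturality U V g := AddCommGrpCat.ext fun a =>
    (Fib.ofG_res (B := B) (p := P.obj.map U.unop.hom.op p) (p' := P.obj.map V.unop.hom.op p) g.unop.left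
      (by rw [← mapComp, Over.w g.unop]) a).symm

instance mono_iotaEP (T : C) (p : P.obj.obj (op T)) : Mono (iotaEP B T p) := by
  haveI : ∀ U, Mono ((iotaEP B T p).app U) := fun U => (AddCommGrpCat.mono_iff_injective _).2 fun a b h => Fib.ofG_injective (B := B) (p := P.obj.map U.unop.hom.op p) h
  exact NatTrans.mono_of_mono_app _

/-- A trivialisation of the fibre over `p` with values in `L`, extending `c` on the structure group. -/
structure Triv (c : G ⟶ L) (T : C) (p : P.obj.obj (op T)) where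
  /-- the values -/
  θ : EP B T p ⟶ (L.over T).obj
  hθ : iotaEP B T p ≫ θ = ((J.overPullback AddCommGrpCat.{u + 1} T).map c).hom

theorem nonempty_triv [HasPullbacks C] [HasEqualizers C] (c : G ⟶ L) [Injective L] (T : C) (p : P.obj.obj (op T)) :
    Nonempty (Triv B c T p) := by
  haveI := GaExt23.DE.injective_res J T L
  haveI : Injective ((sheafToPresheaf (J.over T) AddCommGrpCat.{u + 1}).obj ((GaExt23.DE.res J T).obj L)) :=
    Injective.injective_of_adjoint (sheafificationAdjunction (J.over T) AddCommGrpCat.{u + 1}) _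
  haveI : Injective (L.over T).obj := this
  exact ⟨⟨Injective.factorThru _ (iotaEP B T p), Injective.comp_factorThru _ _⟩⟩

namespace Triv

variable {B} {c : G ⟶ L} {T : C} {p : P.obj.obj (op T)} (t : Triv B c T p)

/-- The value at a section above `p`. -/
def val {U : C} (r : U ⟶ T) (x : B.E.obj.obj (op U)) (hx : B.πP U x = P.obj.map r.op p) : L.obj.obj (op U) :=
  t.θ.app (op (Over.mk r)) (⟨x, hx⟩ : Fib B U (P.obj.map r.op p))

theorem val_congr {U : C} {r r' : U ⟶ T} (e : r = r') {x x' : B.E.obj.obj (op U)} (e' : x = x')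
    (hx : B.πP U x = P.obj.map r.op p) : t.val r x hx = t.val r' x' (by subst e e'; exact hx) := by
  subst e e'; rfl

theorem val_nat {U V : C} (g : V ⟶ U) (r : U ⟶ T) (x : B.E.obj.obj (op U)) (hx : B.πP U x = P.obj.map r.op p) :
    L.obj.map g.op (t.val r x hx) =
      t.val (g ≫ r) (B.E.obj.map g.op x) (by rw [B.πP_map, hx, mapComp]) :=
  (ConcreteCategory.congr_hom (t.θ.naturality (Over.homMk g rfl : Over.mk (g ≫ r) ⟶ Over.mk r).op)
    (⟨x, hx⟩ : Fib B U (P.obj.map r.op p))).symm

theorem val_add {U : C} (r : U ⟶ T) (x y : B.E.obj.obj (op U)) (hx : B.πP U x = P.obj.map r.op p)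
    (hy : B.πP U y = P.obj.map r.op p) :
    t.val r (B.add₂ U x y (hx.trans hy.symm)) ((B.πP_add₂ U x y _).trans hx) = t.val r x hx + t.val r y hy :=
  map_add (t.θ.app (op (Over.mk r))).hom (⟨x, hx⟩ : Fib B U (P.obj.map r.op p)) ⟨y, hy⟩

theorem val_act {U : C} (r : U ⟶ T) (g : G.obj.obj (op U)) (x : B.E.obj.obj (op U))
    (hx : B.πP U x = P.obj.map r.op p) :
    t.val r (B.act U g x) ((B.πP_act U g x).trans hx) = c.hom.app (op U) g + t.val r x hx := by
  let a : Fib B U (P.obj.map r.op p) := ⟨x, hx⟩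
  let e : Fib B U (P.obj.map r.op p) := Fib.ofG g
  have h : t.val r (e + a).x (e + a).hx = t.val r e.x e.hx + t.val r x hx :=
    map_add (t.θ.app (op (Over.mk r))).hom e a
  have h2 : t.val r e.x e.hx = c.hom.app (op U) g :=
    ConcreteCategory.congr_hom (NatTrans.congr_app t.hθ (op (Over.mk r))) g
  rw [← h2, ← h]
  exact t.val_congr rfl (Fib.ofG_add g a).symm _

/-- Composition. -/
def comp {L' : Sheaf J AddCommGrpCat.{u + 1}} (a : L ⟶ L') : Triv B (c ≫ a) T p :=
  ⟨t.θ ≫ ((J.overPullback AddCommGrpCat.{u + 1} T).map a).hom, by rw [← Category.assoc, t.hθ]; rfl⟩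

theorem comp_val {L' : Sheaf J AddCommGrpCat.{u + 1}} (a : L ⟶ L') {U : C} (r : U ⟶ T) (x : B.E.obj.obj (op U))
    (hx : B.πP U x = P.obj.map r.op p) : (t.comp a).val r x hx = a.hom.app (op U) (t.val r x hx) := rfl

/-- Restriction along `f`. -/
def restr {T' : C} (f : T' ⟶ T) : Triv B c T' (P.obj.map f.op p) where
  θ :=
    { app := fun U => AddCommGrpCat.ofHom ((t.θ.app (op (Over.mk (U.unop.hom ≫ f)))).hom.comp
        (AddMonoidHom.mk' (fun a : Fib B U.unop.left (P.obj.map U.unop.hom.op (P.obj.map f.op p)) =>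
          (⟨a.x, a.hx.trans (mapComp P f U.unop.hom p).symm⟩ : Fib B U.unop.left (P.obj.map (U.unop.hom ≫ f).op p)))
          fun a b => Fib.ext rfl))
      naturality := fun U V g => AddCommGrpCat.ext fun a => by
        show t.val (V.unop.hom ≫ f) (B.E.obj.map g.unop.left.op a.x) _ =
          L.obj.map g.unop.left.op (t.val (U.unop.hom ≫ f) a.x _)
        rw [val_nat]
        exact val_congr t (by rw [← Category.assoc, Over.w g.unop]) rfl _ }
  hθ := NatTrans.ext (funext fun U => AddCommGrpCat.ext fun g => by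
    let r : U.unop.left ⟶ T := U.unop.hom ≫ f
    refine Eq.trans (congrArg (t.θ.app (op (Over.mk r))) ?_)
      (ConcreteCategory.congr_hom (NatTrans.congr_app t.hθ (op (Over.mk r))) g)
    refine Fib.ext ?_
    have key : ∀ (p₁ p₂ : P.obj.obj (op U.unop.left)), p₁ = p₂ →
        (Fib.ofG g : Fib B U.unop.left p₁).x = (Fib.ofG g : Fib B U.unop.left p₂).x := by
      rintro p₁ _ rfl; rfl
    exact key _ _ (mapComp P f U.unop.hom p).symm)

theorem restr_val {T' : C} (f : T' ⟶ T) {U : C} (r : U ⟶ T') (x : B.E.obj.obj (op U))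
    (hx : B.πP U x = P.obj.map r.op (P.obj.map f.op p)) :
    (t.restr f).val r x hx = t.val (r ≫ f) x (hx.trans (mapComp P f r p).symm) := rfl

end Triv

/-- A trivialisation which kills the structure group comes from the second factor. -/
theorem exists_desc {c : G ⟶ L} (hc : c = 0) {T : C} {p : P.obj.obj (op T)} (t : Triv B c T p) :
    ∃ χ : Q.over T ⟶ L.over T, ∀ (U : C) (r : U ⟶ T) (x : B.E.obj.obj (op U)) (hx : B.πP U x = P.obj.map r.op p),
      appAt χ r (B.πQ U x) = t.val r x hx := by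
  obtain ⟨χ, hχ⟩ := exists_hom_of_rel (Q := Q) (L := L) T
    (fun U r q l => ∃ (x : B.E.obj.obj (op U)) (hx : B.πP U x = P.obj.map r.op p), B.πQ U x = q ∧ t.val r x hx = l)
    (by
      rintro U r q l l' ⟨x, hx, hq, rfl⟩ ⟨y, hy, hq', rfl⟩
      obtain ⟨g, rfl, -⟩ := B.existsUnique_act U x y (hx.trans hy.symm) (hq.trans hq'.symm)
      subst hc
      rw [t.val_act r g x hx]
      exact (zero_add _).symm)
    (by
      rintro U V r g q l ⟨x, hx, rfl, rfl⟩
      exact ⟨B.E.obj.map g.op x, by rw [B.πP_map, hx, mapComp], B.πQ_map g x, (t.val_nat g r x hx).symm⟩)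
    (fun U r q => by
      obtain ⟨S, hS, h⟩ := B.locallySurjective U (P.obj.map r.op p) q
      refine ⟨S, hS, fun V g hg => ?_⟩
      obtain ⟨x, h1, h2⟩ := h g hg
      have hx : B.πP V x = P.obj.map (g ≫ r).op p := by rw [h1, mapComp]
      exact ⟨t.val (g ≫ r) x hx, x, hx, h2, rfl⟩)
    (by
      rintro U r q q' l l' ⟨x, hx, rfl, rfl⟩ ⟨y, hy, rfl, rfl⟩
      refine ⟨⊤, J.top_mem U, fun V g _ => ?_⟩
      refine ⟨B.E.obj.map g.op (B.add₂ U x y (hx.trans hy.symm)), by rw [B.πP_map, B.πP_add₂, hx, mapComp], ?_, ?_⟩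
      · rw [B.πQ_map, B.πQ_add₂]
      · rw [← t.val_nat g r _ ((B.πP_add₂ U x y _).trans hx), t.val_add r x y hx hy])
  exact ⟨χ, fun U r x hx => hχ U r _ _ ⟨x, hx, rfl, rfl⟩⟩

/-- Morphisms on the second factor are determined on the fibre. -/
theorem hom_ext_fibre {T : C} (p : P.obj.obj (op T)) {χ χ' : Q.over T ⟶ L.over T}
    (h : ∀ (U : C) (r : U ⟶ T) (x : B.E.obj.obj (op U)), B.πP U x = P.obj.map r.op p →
      appAt χ r (B.πQ U x) = appAt χ' r (B.πQ U x)) : χ = χ' := by
  refine hom_ext_at fun U r q => ?_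
  obtain ⟨S, hS, hl⟩ := B.locallySurjective U (P.obj.map r.op p) q
  refine extG L hS _ _ fun V g hg => ?_
  obtain ⟨x, h1, h2⟩ := hl g hg
  rw [appAt_nat, appAt_nat, ← h2]
  exact h V (g ≫ r) x (by rw [h1, mapComp])

end Groth.Agent.BiextSeq8

end
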