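import Groth.Prelude.Def_Biext
import Mathlib.CategoryTheory.Sites.Over
import Mathlib.CategoryTheory.Sites.EpiMono

/-!
# Biextensions: the swap, unit sections and the groups of sections with a fixed projection
-/

set_option autoImplicit false
set_option linter.style.haveILetI false
set_option linter.unusedSectionVars false
set_option backward.isDefEq.respectTransparency false
set_option backward.isDefEq.respectTransparency.types false

universe u

open CategoryTheory Opposite

noncomputable section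

namespace Groth.Agent.BiextSeq8

variable {C : Type (u + 1)} [Category.{u} C] {J : GrothendieckTopology C}
variable {P Q G : Sheaf J AddCommGrpCat.{u + 1}}

theorem mapId (F : Sheaf J AddCommGrpCat.{u + 1}) {T : C} (x : F.obj.obj (op T)) :
    F.obj.map (𝟙 T).op x = x := by
  rw [op_id, F.obj.map_id]; rfl

theorem mapComp (F : Sheaf J AddCommGrpCat.{u + 1}) {U V W : C} (f : V ⟶ U) (g : W ⟶ V) (x : F.obj.obj (op U)) :
    F.obj.map (g ≫ f).op x = F.obj.map g.op (F.obj.map f.op x) := by
  rw [op_comp, F.obj.map_comp]; rfl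

theorem mapId' (F : Sheaf J (Type (u + 1))) {T : C} (x : F.obj.obj (op T)) :
    F.obj.map (𝟙 T).op x = x := by
  rw [op_id, F.obj.map_id]; rfl

theorem mapComp' (F : Sheaf J (Type (u + 1))) {U V W : C} (f : V ⟶ U) (g : W ⟶ V) (x : F.obj.obj (op U)) :
    F.obj.map (g ≫ f).op x = F.obj.map g.op (F.obj.map f.op x) := by
  rw [op_comp, F.obj.map_comp]; rfl

/-- Elements that exist locally and uniquely glue. -/
theorem glue (F : Sheaf J (Type (u + 1))) {T : C} {S : Sieve T} (hS : S ∈ J T)
    (R : ∀ (V : C), (V ⟶ T) → F.obj.obj (op V) → Prop)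
    (huniq : ∀ (V : C) (f : V ⟶ T) (x y : F.obj.obj (op V)), R V f x → R V f y → x = y)
    (hres : ∀ (V W : C) (f : V ⟶ T) (g : W ⟶ V) (x : F.obj.obj (op V)), R V f x → R W (g ≫ f) (F.obj.map g.op x))
    (hex : ∀ (V : C) (f : V ⟶ T), S f → ∃ x, R V f x) :
    ∃ y : F.obj.obj (op T), ∀ (V : C) (f : V ⟶ T), S f → R V f (F.obj.map f.op y) := by
  choose v hv using hex
  have hc : Presieve.FamilyOfElements.Compatible (P := F.obj) (R := S.arrows) (fun V f hf => v V f hf) :=
    fun V₁ V₂ Z g₁ g₂ f₁ f₂ h₁ h₂ e =>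
    huniq Z (g₁ ≫ f₁) _ _ (hres _ _ _ g₁ _ (hv _ _ h₁)) (by rw [e]; exact hres _ _ _ g₂ _ (hv _ _ h₂))
  obtain ⟨y, hy, -⟩ := ((isSheaf_iff_isSheaf_of_type J _).1 F.property) S hS _ hc
  exact ⟨y, fun V f hf => by rw [hy f hf]; exact hv V f hf⟩

theorem ext' (F : Sheaf J (Type (u + 1))) {T : C} {S : Sieve T} (hS : S ∈ J T) (x y : F.obj.obj (op T))
    (h : ∀ (V : C) (f : V ⟶ T), S f → F.obj.map f.op x = F.obj.map f.op y) : x = y :=
  (((isSheaf_iff_isSheaf_of_type J _).1 F.property) S hS).isSeparatedFor.ext fun V f hf => h V f hf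

theorem extG (F : Sheaf J AddCommGrpCat.{u + 1}) {T : C} {S : Sieve T} (hS : S ∈ J T) (x y : F.obj.obj (op T))
    (h : ∀ (V : C) (f : V ⟶ T), S f → F.obj.map f.op x = F.obj.map f.op y) : x = y :=
  ext' (Biext.uSh J F) hS x y h

variable (B : Biext J P Q G)

/-- The two factors exchanged. -/
def swap : Biext J Q P G where
  E := B.E
  πP := B.πQ
  πQ := B.πP
  πP_map := B.πQ_map
  πQ_map := B.πP_map
  act := B.act
  act_map := B.act_map
  πP_act := B.πQ_act
  πQ_act := B.πP_act
  zero_act := B.zero_act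
  add_act := B.add_act
  existsUnique_act T x y h h' := B.existsUnique_act T x y h' h
  locallySurjective T q p := by
    obtain ⟨R, hR, h⟩ := B.locallySurjective T p q
    exact ⟨R, hR, fun V f hf => (h f hf).imp fun _ hx => ⟨hx.2, hx.1⟩⟩
  add₁ := B.add₂
  πP_add₁ := B.πQ_add₂
  πQ_add₁ := B.πP_add₂
  add₁_map := B.add₂_map
  add₁_comm := B.add₂_comm
  add₁_assoc := B.add₂_assoc
  add₁_act := B.add₂_act
  add₂ := B.add₁
  πP_add₂ := B.πQ_add₁
  πQ_add₂ := B.πP_add₁
  add₂_map := B.add₁_map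
  add₂_comm := B.add₁_comm
  add₂_assoc := B.add₁_assoc
  add₂_act := B.add₁_act
  compat T x y z t hxy hzt hxz hyt := (B.compat T x z y t hxz hyt hxy hzt).symm

theorem act_inj (T : C) {g g' : G.obj.obj (op T)} {x : B.E.obj.obj (op T)}
    (h : B.act T g x = B.act T g' x) : g = g' :=
  (B.existsUnique_act T x (B.act T g x) (B.πP_act T g x).symm (B.πQ_act T g x).symm).unique rfl h.symm

theorem add₂_act' (T : C) (g : G.obj.obj (op T)) (x y : B.E.obj.obj (op T)) (h : B.πP T x = B.πP T y) :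
    B.add₂ T x (B.act T g y) (h.trans (B.πP_act T g y).symm) = B.act T g (B.add₂ T x y h) := by
  rw [B.add₂_comm, B.add₂_act T g y x h.symm, B.add₂_comm T y x h.symm]

theorem add₂_congr (T : C) {x x' z z' : B.E.obj.obj (op T)} (h : B.πP T x = B.πP T z) (hx : x = x') (hz : z = z') :
    B.add₂ T x z h = B.add₂ T x' z' (hx ▸ hz ▸ h) := by subst hx; subst hz; rfl

theorem add₁_congr (T : C) {x x' z z' : B.E.obj.obj (op T)} (h : B.πQ T x = B.πQ T z) (hx : x = x') (hz : z = z') :
    B.add₁ T x z h = B.add₁ T x' z' (hx ▸ hz ▸ h) := by subst hx; subst hz; rfl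

/-- Sections with a fixed first projection. -/
@[ext]
structure Fib (T : C) (p : P.obj.obj (op T)) : Type (u + 1) where
  x : B.E.obj.obj (op T)
  hx : B.πP T x = p

namespace Fib

variable {B} {T : C} {p : P.obj.obj (op T)}

/-- The law. -/
def add (a b : Fib B T p) : Fib B T p :=
  ⟨B.add₂ T a.x b.x (a.hx.trans b.hx.symm), (B.πP_add₂ T _ _ _).trans a.hx⟩

/-- Restriction. -/
def res {V : C} (f : V ⟶ T) (a : Fib B T p) : Fib B V (P.obj.map f.op p) :=
  ⟨B.E.obj.map f.op a.x, by rw [B.πP_map, a.hx]⟩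

theorem res_add {V : C} (f : V ⟶ T) (a b : Fib B T p) : res f (add a b) = add (res f a) (res f b) :=
  Fib.ext (B.add₂_map f _ _ _)

theorem add_comm' (a b : Fib B T p) : add a b = add b a := Fib.ext (B.add₂_comm T _ _ _)

theorem add_assoc' (a b c : Fib B T p) : add (add a b) c = add a (add b c) :=
  Fib.ext (B.add₂_assoc T _ _ _ (a.hx.trans b.hx.symm) (b.hx.trans c.hx.symm))

/-- Idempotents are units. -/
def IsUnit' (e : Fib B T p) : Prop := add e e = e

theorem πQ_eq_zero {e : Fib B T p} (he : IsUnit' e) : B.πQ T e.x = 0 := by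
  have h : B.πQ T (add e e).x = B.πQ T e.x := congrArg (fun a : Fib B T p => B.πQ T a.x) he
  rw [add, B.πQ_add₂] at h
  exact add_eq_right.1 h

theorem unit_add {e : Fib B T p} (he : IsUnit' e) (a : Fib B T p) : add e a = a := by
  obtain ⟨g, hg, -⟩ := B.existsUnique_act T a.x (add e a).x (by rw [a.hx, (add e a).hx])
    (by rw [add, B.πQ_add₂, πQ_eq_zero he, zero_add])
  have h1 : (add e (add e a)).x = (add e a).x := congrArg Fib.x (by rw [← add_assoc', he])
  have h2 : (add e (add e a)).x = B.act T g (add e a).x := by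
    show B.add₂ T e.x (add e a).x _ = _
    rw [add₂_congr B T _ rfl hg.symm, add₂_act' B T g e.x a.x (e.hx.trans a.hx.symm)]
    rfl
  have h3 : B.act T g (add e a).x = B.act T 0 (add e a).x := by rw [B.zero_act, ← h2, h1]
  refine Fib.ext ?_
  rw [← hg, act_inj B T h3, B.zero_act]

theorem unit_unique {e e' : Fib B T p} (he : IsUnit' e) (he' : IsUnit' e') : e = e' := by
  rw [← unit_add he' e, add_comm', unit_add he e']

theorem exists_unit (T : C) (p : P.obj.obj (op T)) : ∃ e : Fib B T p, IsUnit' e := by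
  obtain ⟨S, hS, h⟩ := B.locallySurjective T p 0
  let R : ∀ (V : C), (V ⟶ T) → B.E.obj.obj (op V) → Prop := fun V f y =>
    ∃ hy : B.πP V y = P.obj.map f.op p, IsUnit' (⟨y, hy⟩ : Fib B V (P.obj.map f.op p))
  obtain ⟨y, hy⟩ := glue B.E hS R
    (fun V f x y ⟨h1, h2⟩ ⟨h3, h4⟩ => congrArg Fib.x (unit_unique h2 h4))
    (fun V W f g x ⟨h1, h2⟩ => by
      refine ⟨by rw [B.πP_map, h1, mapComp], Fib.ext ?_⟩
      exact (B.add₂_map g x x rfl).symm.trans (congrArg (B.E.obj.map g.op) (congrArg Fib.x h2)))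
    (fun V f hf => by
      obtain ⟨x, hx1, hx2⟩ := h f hf
      obtain ⟨g, hg, -⟩ := B.existsUnique_act V x (B.add₂ V x x rfl) (B.πP_add₂ V x x rfl).symm
        (by rw [B.πQ_add₂, hx2, map_zero, add_zero])
      refine ⟨B.act V (-g) x, (B.πP_act V _ x).trans hx1, Fib.ext ?_⟩
      show B.add₂ V (B.act V (-g) x) (B.act V (-g) x) _ = B.act V (-g) x
      rw [B.add₂_act V (-g) x _ (B.πP_act V (-g) x).symm, add₂_act' B V (-g) x x rfl, ← hg, ← B.add_act,
        ← B.add_act]
      congr 1
      abel)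
  have hP : B.πP T y = p := extG P hS _ _ fun V f hf => by rw [← B.πP_map]; exact (hy V f hf).1
  refine ⟨⟨y, hP⟩, Fib.ext (ext' B.E hS _ _ fun V f hf => ?_)⟩
  obtain ⟨h1, h2⟩ := hy V f hf
  exact (B.add₂_map f _ _ _).trans (congrArg Fib.x h2)

/-- The unit. -/
def zero : Fib B T p := (exists_unit T p).choose

theorem zero_spec : IsUnit' (zero : Fib B T p) := (exists_unit T p).choose_spec

theorem zero_add' (a : Fib B T p) : add zero a = a := unit_add zero_spec a

theorem res_zero {V : C} (f : V ⟶ T) : res f (zero : Fib B T p) = zero := by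
  refine unit_unique ?_ zero_spec
  show add (res f zero) (res f zero) = res f zero
  rw [← res_add, zero_spec]

theorem neg_unique {a b c : Fib B T p} (hb : add b a = zero) (hc : add c a = zero) : b = c :=
  calc b = add zero b := (zero_add' b).symm
    _ = add (add c a) b := by rw [hc]
    _ = add c (add b a) := by rw [add_assoc', add_comm' a b]
    _ = c := by rw [hb, add_comm', zero_add']

theorem exists_neg (a : Fib B T p) : ∃ b : Fib B T p, add b a = zero := by
  obtain ⟨S, hS, h⟩ := B.locallySurjective T p (- B.πQ T a.x)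
  let R : ∀ (V : C), (V ⟶ T) → B.E.obj.obj (op V) → Prop := fun V f y =>
    ∃ hy : B.πP V y = P.obj.map f.op p, add (⟨y, hy⟩ : Fib B V (P.obj.map f.op p)) (res f a) = zero
  obtain ⟨y, hy⟩ := glue B.E hS R
    (fun V f x y ⟨h1, h2⟩ ⟨h3, h4⟩ => congrArg Fib.x (neg_unique h2 h4))
    (fun V W f g x ⟨h1, h2⟩ => by
      refine ⟨by rw [B.πP_map, h1, mapComp], ?_⟩
      have e0 := congrArg (res g) h2
      rw [res_add, res_zero] at e0
      refine Fib.ext ?_
      have e1 := congrArg Fib.x e0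
      refine Eq.trans ?_ (e1.trans ?_)
      · exact add₂_congr B W _ rfl (mapComp' B.E f g a.x)
      · rw [mapComp])
    (fun V f hf => by
      obtain ⟨x, hx1, hx2⟩ := h f hf
      let b : Fib B V (P.obj.map f.op p) := ⟨x, hx1⟩
      obtain ⟨g, hg, -⟩ := B.existsUnique_act V (zero : Fib B V (P.obj.map f.op p)).x (add b (res f a)).x
        (by rw [Fib.hx, Fib.hx])
        (by rw [πQ_eq_zero zero_spec]; show _ = B.πQ V (B.add₂ V x (B.E.obj.map f.op a.x) _)
            rw [B.πQ_add₂, B.πQ_map, hx2, map_neg, neg_add_cancel])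
      refine ⟨B.act V (-g) x, (B.πP_act V _ x).trans hx1, Fib.ext ?_⟩
      show B.add₂ V (B.act V (-g) x) (B.E.obj.map f.op a.x) _ = _
      refine (B.add₂_act V (-g) x (res f a).x (hx1.trans (res f a).hx.symm)).trans ?_
      show B.act V (-g) (add b (res f a)).x = _
      rw [← hg, ← B.add_act, neg_add_cancel, B.zero_act])
  have hP : B.πP T y = p := extG P hS _ _ fun V f hf => by rw [← B.πP_map]; exact (hy V f hf).1
  refine ⟨⟨y, hP⟩, Fib.ext (ext' B.E hS _ _ fun V f hf => ?_)⟩
  obtain ⟨h1, h2⟩ := hy V f hf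
  refine ((B.add₂_map f _ _ _).trans (congrArg Fib.x h2)).trans ?_
  exact congrArg Fib.x (res_zero f).symm

instance : AddCommGroup (Fib B T p) where
  add := add
  zero := zero
  neg a := (exists_neg a).choose
  add_assoc := add_assoc'
  zero_add := zero_add'
  add_zero a := (add_comm' a zero).trans (zero_add' a)
  nsmul := @nsmulRec _ ⟨zero⟩ ⟨add⟩
  zsmul := @zsmulRec _ ⟨zero⟩ ⟨add⟩ ⟨fun a => (exists_neg a).choose⟩ (@nsmulRec _ ⟨zero⟩ ⟨add⟩)
  neg_add_cancel a := (exists_neg a).choose_spec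
  add_comm := add_comm'

theorem add_x (a b : Fib B T p) : (a + b).x = B.add₂ T a.x b.x (a.hx.trans b.hx.symm) := rfl

/-- Restriction as a homomorphism. -/
def resHom {V : C} (f : V ⟶ T) {p' : P.obj.obj (op V)} (h : P.obj.map f.op p = p') : Fib B T p →+ Fib B V p' :=
  AddMonoidHom.mk' (fun a => ⟨B.E.obj.map f.op a.x, ((B.πP_map f a.x).trans (congrArg _ a.hx)).trans h⟩)
    fun a b => Fib.ext (B.add₂_map f _ _ _)

/-- The action on the unit: the inclusion of the structure group. -/
def ofG : G.obj.obj (op T) →+ Fib B T p :=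
  AddMonoidHom.mk' (fun g => ⟨B.act T g (0 : Fib B T p).x, (B.πP_act T g _).trans (0 : Fib B T p).hx⟩) fun g g' => by
    refine Fib.ext ?_
    show B.act T (g + g') _ = B.add₂ T (B.act T g _) (B.act T g' _) _
    rw [B.add₂_act T g _ _ (B.πP_act T g' (0 : Fib B T p).x).symm, add₂_act' B T g' _ _ rfl, B.add_act]
    exact congrArg (fun z => B.act T g (B.act T g' z)) (congrArg Fib.x (zero_spec (B := B) (p := p))).symm

theorem ofG_add (g : G.obj.obj (op T)) (a : Fib B T p) : (ofG g + a).x = B.act T g a.x := by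
  show B.add₂ T (B.act T g (0 : Fib B T p).x) a.x _ = _
  rw [B.add₂_act T g _ _ ((0 : Fib B T p).hx.trans a.hx.symm)]
  exact congrArg (B.act T g) (congrArg Fib.x (zero_add' a))

theorem ofG_injective : Function.Injective (ofG : G.obj.obj (op T) → Fib B T p) :=
  fun _ _ h => act_inj B T (congrArg Fib.x h)

theorem ofG_res {V : C} (f : V ⟶ T) {p' : P.obj.obj (op V)} (h : P.obj.map f.op p = p') (g : G.obj.obj (op T)) :
    resHom f h (ofG g : Fib B T p) = ofG (G.obj.map f.op g) := by
  subst h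
  refine Fib.ext ?_
  show B.E.obj.map f.op (B.act T g _) = B.act V _ _
  rw [B.act_map]
  exact congrArg (B.act V _) (congrArg Fib.x (res_zero f (B := B) (p := p)))

end Fib

end Groth.Agent.BiextSeq8

end
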