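import Groth.Agent.Lib.BiextSeq8.Spl
import Groth.Agent.Lib.GrpShEx23.Basic
import Mathlib.Algebra.Homology.DerivedCategory.Ext.ExactSequences

/-!
# Triviality of a biextension from the vanishing of `Ext¹(P, 𝓗om(Q, G))` and `Hom(P, 𝓔xt¹(Q, G))`
-/

set_option autoImplicit false
set_option linter.style.haveILetI false
set_option linter.unusedSectionVars false
set_option maxHeartbeats 800000
set_option backward.isDefEq.respectTransparency false
set_option backward.isDefEq.respectTransparency.types false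

universe u

open CategoryTheory CategoryTheory.Limits Opposite

noncomputable section

namespace Groth.Agent.BiextSeq8

variable {C : Type (u + 1)} [Category.{u} C] {J : GrothendieckTopology C}
  [HasSheafify J AddCommGrpCat.{u + 1}] [HasExt.{u + 1} (Sheaf J AddCommGrpCat.{u + 1})]
variable {P Q G : Sheaf J AddCommGrpCat.{u + 1}} (B : Biext J P Q G)

theorem epi_map_of_locallySurjective {X Y : Cᵒᵖ ⥤ AddCommGrpCat.{u + 1}} (g : X ⟶ Y)
    (h : Presheaf.IsLocallySurjective J g) : Epi ((presheafToSheaf J AddCommGrpCat.{u + 1}).map g) := by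
  haveI := h
  haveI : Presheaf.IsLocallySurjective J ((presheafToSheaf J AddCommGrpCat.{u + 1}).map g).hom :=
    Presheaf.isLocallySurjective_of_isLocallySurjective_fac (f₁ := toSheafify J X) (f₃ := g ≫ toSheafify J Y) J
      (toSheafify_naturality J g).symm
  haveI : Sheaf.IsLocallySurjective ((presheafToSheaf J AddCommGrpCat.{u + 1}).map g) := this
  exact (Sheaf.isLocallySurjective_iff_epi' _ _).1 inferInstance

/-- The inclusion as a homomorphism. -/
def splHom (T : C) : (Q.over T ⟶ G.over T) →+ Spl B T := ((splIncl B).app (op T)).hom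

theorem splHom_res {T T' : C} (g : T' ⟶ T) (h : Q.over T ⟶ G.over T) :
    Spl.res g (splHom B T h) = splHom B T' ((J.overMapPullback AddCommGrpCat.{u + 1} g).map h) :=
  (ConcreteCategory.congr_hom ((splIncl B).naturality g.op) h).symm

theorem splHom_p (T : C) (h : Q.over T ⟶ G.over T) : (splHom B T h).p = 0 := rfl

theorem exists_splHom (T : C) (s : Spl B T) (hs : s.p = 0) : ∃ h, splHom B T h = s := splIncl_exact T s hs

theorem spl_sub_p {T : C} (s t : Spl B T) : (s - t).p = s.p - t.p :=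
  map_sub (AddMonoidHom.mk' (fun a : Spl B T => a.p) fun _ _ => rfl) s t

/-- A natural retraction of the inclusion and local splittings give a splitting. -/
theorem isTrivial_of_retraction
    (hloc : ∀ (T : C) (p : P.obj.obj (op T)), ∃ S ∈ J T, ∀ (V : C) (f : V ⟶ T), S f →
      ∃ σ, IsSpl B V (P.obj.map f.op p) σ)
    (ret : ∀ V : C, Spl B V →+ (Q.over V ⟶ G.over V)) (hr' : ∀ V h, ret V (splHom B V h) = h)
    (hnat : ∀ (V W : C) (g : W ⟶ V) (s : Spl B V),
      ret W (Spl.res g s) = (J.overMapPullback AddCommGrpCat.{u + 1} g).map (ret V s)) :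
    Biext.IsTrivial J B := by
  let norm : ∀ (V : C), Spl B V → Spl B V := fun V s => s - splHom B V (ret V s)
  have hp : ∀ V s, (norm V s).p = s.p := fun V s => by
    show (s - splHom B V (ret V s)).p = s.p
    rw [spl_sub_p, splHom_p, sub_zero]
  have huniq : ∀ (V : C) (s s' : Spl B V), s.p = s'.p → norm V s = norm V s' := by
    intro V s s' e
    obtain ⟨h, hh⟩ := exists_splHom B V (s - s') (by rw [spl_sub_p, e, sub_self])
    have hh' : s = splHom B V h + s' := by rw [hh, sub_add_cancel]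
    show s - splHom B V (ret V s) = s' - splHom B V (ret V s')
    rw [hh', map_add, hr', map_add]
    abel
  have hnormres : ∀ (V W : C) (g : W ⟶ V) (s : Spl B V), Spl.res g (norm V s) = norm W (Spl.res g s) := by
    intro V W g s
    show Spl.res g (s - splHom B V (ret V s)) = Spl.res g s - splHom B W (ret W (Spl.res g s))
    rw [map_sub, splHom_res, hnat]
  let R : ∀ (T : C), P.obj.obj (op T) → Q.obj.obj (op T) → ∀ (V : C), (V ⟶ T) → B.E.obj.obj (op V) → Prop :=
    fun T p q V f x => ∃ s : Spl B V, s.p = P.obj.map f.op p ∧ (norm V s).σ V (𝟙 V) (Q.obj.map f.op q) = x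
  have hRu : ∀ T p q V f x y, R T p q V f x → R T p q V f y → x = y := by
    rintro T p q V f x y ⟨s, hs, rfl⟩ ⟨s', hs', rfl⟩
    rw [huniq V s s' (hs.trans hs'.symm)]
  have hRr : ∀ T p q V W f (g : W ⟶ V) x, R T p q V f x → R T p q W (g ≫ f) (B.E.obj.map g.op x) := by
    rintro T p q V W f g x ⟨s, hs, rfl⟩
    refine ⟨Spl.res g s, (congrArg (P.obj.map g.op) hs).trans (mapComp P f g p).symm, ?_⟩
    rw [← hnormres]
    refine Eq.trans ?_ ((norm V s).hσ.nat V W g (𝟙 V) _).symm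
    show (norm V s).σ W (𝟙 W ≫ g) _ = _
    rw [Category.id_comp, Category.comp_id, mapComp]
  have hσ : ∀ (T : C) (p : P.obj.obj (op T)) (q : Q.obj.obj (op T)), ∃ y : B.E.obj.obj (op T),
      ∀ (V : C) (f : V ⟶ T) (x : B.E.obj.obj (op V)), R T p q V f x → B.E.obj.map f.op y = x := by
    intro T p q
    obtain ⟨S, hS, h⟩ := hloc T p
    obtain ⟨y, hy⟩ := glue B.E hS (R T p q) (hRu T p q) (fun V W => hRr T p q V W)
      (fun V f hf => by
        obtain ⟨σ, hσ⟩ := h V f hf
        exact ⟨_, ⟨P.obj.map f.op p, σ, hσ⟩, rfl, rfl⟩)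
    refine ⟨y, fun V f x hx => ext' B.E (J.pullback_stable f hS) _ _ fun W g hg => ?_⟩
    rw [← mapComp']
    exact hRu T p q W (g ≫ f) _ _ (hy W (g ≫ f) hg) (hRr T p q V W f g x hx)
  choose σ hσ using hσ
  refine ⟨{ σ := σ, πP_σ := ?_, πQ_σ := ?_, σ_map := ?_, σ_add₁ := ?_, σ_add₂ := ?_ }⟩
  · intro T p q
    obtain ⟨S, hS, h⟩ := hloc T p
    refine extG P hS _ _ fun V f hf => ?_
    obtain ⟨τ, hτ⟩ := h V f hf
    rw [← B.πP_map, hσ T p q V f _ ⟨⟨_, τ, hτ⟩, rfl, rfl⟩, (norm V _).hσ.hP, hp, mapId]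
  · intro T p q
    obtain ⟨S, hS, h⟩ := hloc T p
    refine extG Q hS _ _ fun V f hf => ?_
    obtain ⟨τ, hτ⟩ := h V f hf
    rw [← B.πQ_map, hσ T p q V f _ ⟨⟨_, τ, hτ⟩, rfl, rfl⟩, (norm V _).hσ.hQ]
  · intro T T' f p q
    obtain ⟨S, hS, h⟩ := hloc T' (P.obj.map f.op p)
    refine ext' B.E hS _ _ fun V g hg => ?_
    obtain ⟨τ, hτ⟩ := h V g hg
    rw [hσ T' _ _ V g _ ⟨⟨_, τ, hτ⟩, rfl, rfl⟩, ← mapComp']
    refine hσ T p q V (g ≫ f) _ ⟨⟨_, τ, hτ⟩, (mapComp P f g p).symm, ?_⟩
    rw [mapComp]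
  · intro T p p' q
    obtain ⟨S, hS, h⟩ := hloc T p
    obtain ⟨S', hS', h'⟩ := hloc T p'
    refine ext' B.E (J.intersection_covering hS hS') _ _ fun V f hf => ?_
    obtain ⟨τ, hτ⟩ := h V f hf.1
    obtain ⟨τ', hτ'⟩ := h' V f hf.2
    let s : Spl B V := ⟨_, τ, hτ⟩
    let s' : Spl B V := ⟨_, τ', hτ'⟩
    have hn : norm V (s + s') = norm V s + norm V s' := by
      show s + s' - splHom B V (ret V (s + s')) = (s - splHom B V (ret V s)) + (s' - splHom B V (ret V s'))
      rw [map_add, map_add]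
      abel
    rw [hσ T (p + p') q V f _ ⟨s + s', (map_add (P.obj.map f.op).hom p p').symm, rfl⟩, B.add₁_map, hn]
    exact (add₁_congr B V _ (hσ T p q V f _ ⟨s, rfl, rfl⟩) (hσ T p' q V f _ ⟨s', rfl, rfl⟩)).symm
  · intro T p q q'
    obtain ⟨S, hS, h⟩ := hloc T p
    refine ext' B.E hS _ _ fun V f hf => ?_
    obtain ⟨τ, hτ⟩ := h V f hf
    let s : Spl B V := ⟨_, τ, hτ⟩
    rw [hσ T p (q + q') V f _ ⟨s, rfl, rfl⟩, B.add₂_map, map_add, (norm V s).hσ.add]
    exact (add₂_congr B V _ (hσ T p q V f _ ⟨s, rfl, rfl⟩) (hσ T p q' V f _ ⟨s, rfl, rfl⟩)).symm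

/-- Local splittings of all fibres and `Ext¹(P, 𝓗om(Q, G)) = 0` give a splitting. -/
theorem isTrivial_of_locally_split
    (hloc : ∀ (T : C) (p : P.obj.obj (op T)), ∃ S ∈ J T, ∀ (V : C) (f : V ⟶ T), S f →
      ∃ σ, IsSpl B V (P.obj.map f.op p) σ)
    (h₁ : ∀ e : Abelian.Ext P (HomSh.homSh J Q G) 1, e = 0) : Biext.IsTrivial J B := by
  let H := HomSh.homSh J Q G
  let F := presheafToSheaf J AddCommGrpCat.{u + 1}
  let S₀ : ShortComplex (Cᵒᵖ ⥤ AddCommGrpCat.{u + 1}) := ShortComplex.mk (splIncl B) (splProj B) splIncl_proj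
  have hex₀ : S₀.Exact := by
    rw [ShortComplex.exact_iff_isZero_homology]
    refine Functor.isZero _ fun U => ?_
    refine IsZero.of_iso ?_ (S₀.mapHomologyIso ((evaluation Cᵒᵖ AddCommGrpCat.{u + 1}).obj U)).symm
    rw [← ShortComplex.exact_iff_isZero_homology]
    exact (ShortComplex.ab_exact_iff _).2 fun s hs => splIncl_exact U.unop s hs
  haveI : Mono S₀.f := by
    haveI : ∀ U, Mono ((splIncl B).app U) := fun U =>
      (AddCommGrpCat.mono_iff_injective _).2 (splIncl_injective U.unop)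
    exact NatTrans.mono_of_mono_app (splIncl B)
  have hls : Presheaf.IsLocallySurjective J (splProj B) := ⟨fun {T} p => by
    obtain ⟨S, hS, h⟩ := hloc T p
    refine J.superset_covering (fun V f hf => ?_) hS
    obtain ⟨σ, hσ⟩ := h V f hf
    exact ⟨(⟨P.obj.map f.op p, σ, hσ⟩ : Spl B V), rfl⟩⟩
  let S₁ : ShortComplex (Sheaf J AddCommGrpCat.{u + 1}) := S₀.map F
  haveI : Mono S₁.f := inferInstanceAs (Mono (F.map (splIncl B)))
  haveI : Epi S₁.g := epi_map_of_locallySurjective (splProj B) hls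
  let S₂ : ShortComplex (Sheaf J AddCommGrpCat.{u + 1}) :=
    ShortComplex.mk ((sheafificationIso H).hom ≫ F.map (splIncl B)) (F.map (splProj B) ≫ (sheafificationIso P).inv)
      (by rw [Category.assoc, ← Functor.map_comp_assoc, splIncl_proj, Functor.map_zero, zero_comp, comp_zero])
  have hS₁ : S₁.ShortExact := ShortComplex.ShortExact.mk' (hex₀.map F) inferInstance inferInstance
  let eS : S₁ ≅ S₂ := ShortComplex.isoMk (sheafificationIso H).symm (Iso.refl _) (sheafificationIso P).symm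
    ((Iso.inv_hom_id_assoc _ _).trans (Category.comp_id _).symm) (Category.id_comp _)
  have hS₂ : S₂.ShortExact := ShortComplex.shortExact_of_iso eS hS₁
  obtain ⟨x, hx⟩ := Abelian.Ext.contravariant_sequence_exact₁ hS₂ H (Abelian.Ext.mk₀ (𝟙 H)) (rfl : 1 + 0 = 1)
    (by rw [h₁ hS₂.extClass]; exact Abelian.Ext.zero_comp ..)
  obtain ⟨r, rfl⟩ := Abelian.Ext.addEquiv₀.symm.surjective x
  have hr : ((sheafificationIso H).hom ≫ F.map (splIncl B)) ≫ r = 𝟙 H := by
    have h := hx
    simp only [Abelian.Ext.addEquiv₀_symm_apply, Abelian.Ext.mk₀_comp_mk₀] at h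
    exact (Abelian.Ext.mk₀_bijective _ _).1 h
  let r' : splPre B ⟶ H.obj := toSheafify J (splPre B) ≫ r.hom
  have hr' : ∀ (V : C) (h : H.obj.obj (op V)), r'.app (op V) ((splIncl B).app (op V) h) = h := by
    intro V h
    have e : splIncl B ≫ r' = 𝟙 H.obj := by
      show splIncl B ≫ toSheafify J (splPre B) ≫ r.hom = _
      rw [← Category.assoc, toSheafify_naturality J (splIncl B)]
      exact congrArg (sheafToPresheaf J AddCommGrpCat.{u + 1}).map hr
    exact ConcreteCategory.congr_hom (NatTrans.congr_app e (op V)) h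
  refine isTrivial_of_retraction B hloc (fun V => (r'.app (op V)).hom) hr' (fun V W g t => ?_)
  exact ConcreteCategory.congr_hom (r'.naturality g.op) t

theorem isTrivial_of_seq [HasPullbacks C] [HasEqualizers C] {I K : Sheaf J AddCommGrpCat.{u + 1}} [Injective I]
    (i : G ⟶ I) (π : I ⟶ K) (w : i ≫ π = 0) (hS : (ShortComplex.mk i π w).ShortExact)
    (h₁ : ∀ e : Abelian.Ext P (HomSh.homSh J Q G) 1, e = 0)
    (h₂ : ∀ φ : P ⟶ Cq Q π, φ = 0) : Biext.IsTrivial J B :=
  isTrivial_of_locally_split B (exists_spl_of_phi_eq_zero w B hS (h₂ _)) h₁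

omit B in
theorem exists_injective_seq [EnoughInjectives (Sheaf J AddCommGrpCat.{u + 1})]
    (M : Sheaf J AddCommGrpCat.{u + 1}) :
    ∃ (I K : Sheaf J AddCommGrpCat.{u + 1}) (i : M ⟶ I) (π : I ⟶ K) (w : i ≫ π = 0),
      Injective I ∧ (ShortComplex.mk i π w).ShortExact :=
  ⟨_, _, Injective.ι M, cokernel.π _, cokernel.condition _, inferInstanceAs (Injective (Injective.under M)),
    ShortComplex.ShortExact.mk' (ShortComplex.exact_cokernel _)
      (inferInstanceAs (Mono (Injective.ι M))) (inferInstanceAs (Epi (cokernel.π _)))⟩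

omit B in
theorem hom_eq_zero_of_R1 {A : Type*} [Category A] [Abelian A] [EnoughInjectives A] (F : A ⥤ A) [F.Additive]
    [PreservesFiniteLimits F] (E : A ⥤ A) (hE : E = F.rightDerived 1) {M I K : A} (i : M ⟶ I) (π : I ⟶ K)
    (w : i ≫ π = 0) (hI : Injective I) (hS : (ShortComplex.mk i π w).ShortExact) {X : A}
    (h : ∀ φ : X ⟶ E.obj M, φ = 0) (φ : X ⟶ cokernel (F.map π)) : φ = 0 := by
  subst hE
  haveI : Injective (ShortComplex.mk i π w).X₂ := hI
  obtain ⟨e⟩ := CmpSit16.nonempty_R1_iso F hS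
  rw [← cancel_mono e.inv, zero_comp]
  exact h _

/-- The exact sequence of biextensions: both outer terms zero kills the middle one. -/
theorem isTrivial [HasPullbacks C] [HasEqualizers C] [EnoughInjectives (Sheaf J AddCommGrpCat.{u + 1})]
    [HasInjectiveResolutions (Sheaf J AddCommGrpCat.{u + 1})]
    (h₁ : ∀ e : Abelian.Ext P (HomSh.homSh J Q G) 1, e = 0)
    (h₂ : ∀ φ : P ⟶ (HomSh.extSh J Q 1).obj G, φ = 0) : Biext.IsTrivial J B := by
  obtain ⟨I, K, i, π, w, hI, hT⟩ := exists_injective_seq G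
  haveI := hI
  exact isTrivial_of_seq B i π w hT h₁
    (hom_eq_zero_of_R1 (HomSh.homShFunctor J Q) (HomSh.extSh J Q 1) (HomSh.extSh_def J Q 1) i π w hI hT h₂)

end Groth.Agent.BiextSeq8

end
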