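import Groth.Agent.Lib.BiextSeq8.Desc
import Groth.Agent.Lib.CmpSit16.Coho

/-!
# The class of the fibres of a biextension and local splittings
-/

set_option autoImplicit false
set_option linter.style.haveILetI false
set_option linter.unusedSectionVars false
set_option maxHeartbeats 800000
set_option backward.isDefEq.respectTransparency false
set_option backward.isDefEq.respectTransparency.types false

universe u

open CategoryTheory CategoryTheory.Limits Opposite

noncomputable section

namespace Groth.Agent.BiextSeq8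

variable {C : Type (u + 1)} [Category.{u} C] {J : GrothendieckTopology C}
variable {P Q G : Sheaf J AddCommGrpCat.{u + 1}}

/-- A section killed by the second map of a left exact sequence comes from the first object. -/
theorem sect_exact [HasSheafify J AddCommGrpCat.{u + 1}] {S : ShortComplex (Sheaf J AddCommGrpCat.{u + 1})}
    (hS : S.Exact) [Mono S.f] (T : C) (x : S.X₂.obj.obj (op T)) (hx : S.g.hom.app (op T) x = 0) :
    ∃ y, S.f.hom.app (op T) y = x :=
  (ShortComplex.ab_exact_iff _).1 (hS.map_of_mono_of_preservesKernel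
    (sheafToPresheaf J AddCommGrpCat.{u + 1} ⋙ (evaluation _ AddCommGrpCat.{u + 1}).obj (op T))
    inferInstance inferInstance) x hx

/-- A section killed by the second map of an exact sequence comes locally from the first object. -/
theorem imageSieve_mem_of_exact [HasSheafify J AddCommGrpCat.{u + 1}]
    {S : ShortComplex (Sheaf J AddCommGrpCat.{u + 1})}
    (hS : S.Exact) (T : C) (x : S.X₂.obj.obj (op T)) (hx : S.g.hom.app (op T) x = 0) :
    Presheaf.imageSieve (U := T) S.f.hom x ∈ J T := by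
  haveI : Epi S.toCycles := hS.epi_toCycles
  haveI : Mono (ShortComplex.mk S.iCycles S.g S.iCycles_g).f := inferInstanceAs (Mono S.iCycles)
  obtain ⟨t, ht⟩ := sect_exact (ShortComplex.exact_of_f_is_kernel
    (ShortComplex.mk S.iCycles S.g S.iCycles_g) S.cyclesIsKernel) T x hx
  haveI : Sheaf.IsLocallySurjective S.toCycles := (Sheaf.isLocallySurjective_iff_epi' _ _).2 inferInstance
  refine J.superset_covering (fun V g hg => ?_) (Presheaf.imageSieve_mem J S.toCycles.hom (U := op T) t)
  obtain ⟨y, hy⟩ := hg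
  refine ⟨y, ?_⟩
  have e1 := ConcreteCategory.congr_hom (NatTrans.congr_app
    (congrArg (sheafToPresheaf J AddCommGrpCat.{u + 1}).map S.toCycles_i) (op V)) y
  refine e1.symm.trans ?_
  show S.iCycles.hom.app (op V) (S.toCycles.hom.app (op V) y) = _
  rw [hy]
  refine (ConcreteCategory.congr_hom (S.iCycles.hom.naturality g.op) t).trans ?_
  exact congrArg _ ht

/-- A splitting of the fibre above a section of the first factor. -/
structure IsSpl (B : Biext J P Q G) (T : C) (p : P.obj.obj (op T))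
    (σ : ∀ (U : C), (U ⟶ T) → Q.obj.obj (op U) → B.E.obj.obj (op U)) : Prop where
  hP : ∀ U r q, B.πP U (σ U r q) = P.obj.map r.op p
  hQ : ∀ U r q, B.πQ U (σ U r q) = q
  nat : ∀ (U V : C) (g : V ⟶ U) (r : U ⟶ T) q, B.E.obj.map g.op (σ U r q) = σ V (g ≫ r) (Q.obj.map g.op q)
  add : ∀ U r q q', σ U r (q + q') = B.add₂ U (σ U r q) (σ U r q') ((hP U r q).trans (hP U r q').symm)

variable {I K : Sheaf J AddCommGrpCat.{u + 1}} {i : G ⟶ I} {π : I ⟶ K} (w : i ≫ π = 0) (B : Biext J P Q G)

/-- The difference of two trivialisations. -/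
def Triv.sub {T : C} {p : P.obj.obj (op T)} (t t' : Triv B i T p) : Triv B (0 : G ⟶ I) T p :=
  ⟨t.θ - t'.θ, by rw [Preadditive.comp_sub, t.hθ, t'.hθ, sub_self]; rfl⟩

theorem Triv.sub_val {T : C} {p : P.obj.obj (op T)} (t t' : Triv B i T p) {U : C} (r : U ⟶ T)
    (x : B.E.obj.obj (op U)) (hx : B.πP U x = P.obj.map r.op p) :
    (Triv.sub B t t').val r x hx = t.val r x hx - t'.val r x hx := rfl

/-- The morphism induced on the second factor. -/
def chi {T : C} {p : P.obj.obj (op T)} (t : Triv B i T p) : Q.over T ⟶ K.over T :=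
  (exists_desc B w (t.comp π)).choose

theorem chi_spec {T : C} {p : P.obj.obj (op T)} (t : Triv B i T p) {U : C} (r : U ⟶ T)
    (x : B.E.obj.obj (op U)) (hx : B.πP U x = P.obj.map r.op p) :
    appAt (chi w B t) r (B.πQ U x) = π.hom.app (op U) (t.val r x hx) :=
  (exists_desc B w (t.comp π)).choose_spec U r x hx

theorem appAt_comp {T : C} (ψ : Q.over T ⟶ I.over T) {U : C} (r : U ⟶ T) (q : Q.obj.obj (op U)) :
    appAt (ψ ≫ (J.overPullback AddCommGrpCat.{u + 1} T).map π) r q = π.hom.app (op U) (appAt ψ r q) := rfl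

theorem overMap_chi {T T' : C} (f : T' ⟶ T) {p : P.obj.obj (op T)} (t : Triv B i T p) :
    (J.overMapPullback AddCommGrpCat.{u + 1} f).map (chi w B t) = chi w B (t.restr f) := by
  refine hom_ext_fibre B (P.obj.map f.op p) fun U r x hx => ?_
  rw [chi_spec w B (t.restr f) r x hx, Triv.restr_val]
  exact chi_spec w B t (r ≫ f) x (hx.trans (mapComp P f r p).symm)

section cls

variable [HasSheafify J AddCommGrpCat.{u + 1}]

variable (Q π) in
/-- The quotient sheaf receiving the classes. -/
abbrev Cq : Sheaf J AddCommGrpCat.{u + 1} := cokernel ((HomSh.homShFunctor J Q).map π)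

variable (Q π) in
/-- The class of a morphism. -/
def cls (T : C) (χ : Q.over T ⟶ K.over T) : (Cq Q π).obj.obj (op T) :=
  (cokernel.π ((HomSh.homShFunctor J Q).map π)).hom.app (op T) χ

theorem cls_add (T : C) (χ χ' : Q.over T ⟶ K.over T) : cls Q π T (χ + χ') = cls Q π T χ + cls Q π T χ' :=
  map_add ((cokernel.π ((HomSh.homShFunctor J Q).map π)).hom.app (op T)).hom χ χ'

theorem cls_comp (T : C) (ψ : Q.over T ⟶ I.over T) :
    cls Q π T (ψ ≫ (J.overPullback AddCommGrpCat.{u + 1} T).map π) = 0 := by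
  have h := ConcreteCategory.congr_hom (NatTrans.congr_app
    (congrArg (sheafToPresheaf J AddCommGrpCat.{u + 1}).map (cokernel.condition ((HomSh.homShFunctor J Q).map π)))
    (op T)) ψ
  have e : ψ ≫ (J.overPullback AddCommGrpCat.{u + 1} T).map π =
      (J.overPullback AddCommGrpCat.{u + 1} T).map (𝟙 Q) ≫ ψ ≫ (J.overPullback AddCommGrpCat.{u + 1} T).map π := by
    rw [CategoryTheory.Functor.map_id, Category.id_comp]
  rw [e]
  exact h

theorem cls_chi_eq {T : C} {p : P.obj.obj (op T)} (t t' : Triv B i T p) :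
    cls Q π T (chi w B t) = cls Q π T (chi w B t') := by
  obtain ⟨d, hd⟩ := exists_desc B rfl (Triv.sub B t t')
  have e : chi w B t = chi w B t' + d ≫ (J.overPullback AddCommGrpCat.{u + 1} T).map π := by
    refine hom_ext_fibre B p fun U r x hx => ?_
    show _ = appAt (chi w B t') r _ + appAt (d ≫ _) r _
    rw [appAt_comp, hd U r x hx, chi_spec w B t r x hx, chi_spec w B t' r x hx, Triv.sub_val, map_sub, add_sub_cancel]
  rw [e, cls_add, cls_comp, add_zero]

theorem cls_chi_add {T : C} {p p' : P.obj.obj (op T)} (t : Triv B i T (p + p')) (t₁ : Triv B i T p)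
    (t₂ : Triv B i T p') :
    cls Q π T (chi w B t) = cls Q π T (chi w B t₁) + cls Q π T (chi w B t₂) := by
  obtain ⟨d, hd⟩ := exists_hom_of_rel (Q := Q) (L := I) T
    (fun U r q l => ∃ (x z : B.E.obj.obj (op U)) (hx : B.πP U x = P.obj.map r.op p)
      (hz : B.πP U z = P.obj.map r.op p') (h : B.πQ U x = B.πQ U z), B.πQ U x = q ∧
        t.val r (B.add₁ U x z h) (by rw [B.πP_add₁, hx, hz, map_add]) - t₁.val r x hx - t₂.val r z hz = l)
    (by
      rintro U r q l l' ⟨x, z, hx, hz, h, hq, rfl⟩ ⟨x', z', hx', hz', h', hq', rfl⟩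
      obtain ⟨a, rfl, -⟩ := B.existsUnique_act U x x' (hx.trans hx'.symm) (hq.trans hq'.symm)
      obtain ⟨b, rfl, -⟩ := B.existsUnique_act U z z' (hz.trans hz'.symm) ((h.symm.trans (hq.trans hq'.symm)).trans h')
      have e : B.add₁ U (B.act U a x) (B.act U b z) h' = B.act U (a + b) (B.add₁ U x z h) := by
        rw [B.add₁_act U a x _ (h.trans (B.πQ_act U b z).symm), B.add₁_comm, B.add₁_act U b z x h.symm,
          B.add₁_comm U z x h.symm, B.add_act]
      rw [t.val_congr rfl e, t.val_act r (a + b) _ (by rw [B.πP_add₁, hx, hz, map_add]), t₁.val_act r a x hx,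
        t₂.val_act r b z hz, show i.hom.app (op U) (a + b) = i.hom.app (op U) a + i.hom.app (op U) b from
          map_add (i.hom.app (op U)).hom a b]
      abel)
    (by
      rintro U V r g q l ⟨x, z, hx, hz, h, rfl, rfl⟩
      refine ⟨B.E.obj.map g.op x, B.E.obj.map g.op z, by rw [B.πP_map, hx, mapComp],
        by rw [B.πP_map, hz, mapComp], by rw [B.πQ_map, B.πQ_map, h], B.πQ_map g x, ?_⟩
      rw [map_sub, map_sub, t.val_nat, t₁.val_nat, t₂.val_nat, t.val_congr rfl (B.add₁_map g x z h).symm])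
    (fun U r q => by
      obtain ⟨S, hS, hl⟩ := B.locallySurjective U (P.obj.map r.op p) q
      obtain ⟨S', hS', hl'⟩ := B.locallySurjective U (P.obj.map r.op p') q
      refine ⟨S ⊓ S', J.intersection_covering hS hS', fun V g hg => ?_⟩
      obtain ⟨x, h1, h2⟩ := hl g hg.1
      obtain ⟨z, h3, h4⟩ := hl' g hg.2
      exact ⟨_, x, z, by rw [h1, mapComp], by rw [h3, mapComp], h2.trans h4.symm, h2, rfl⟩)
    (by
      rintro U r q q' l l' ⟨x, z, hx, hz, h, rfl, rfl⟩ ⟨y, s, hy, hs, h', rfl, rfl⟩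
      refine ⟨⊤, J.top_mem U, fun V g _ => ?_⟩
      let x' := B.add₂ U x y (hx.trans hy.symm)
      let z' := B.add₂ U z s (hz.trans hs.symm)
      have hx' : B.πP U x' = P.obj.map r.op p := (B.πP_add₂ _ _ _ _).trans hx
      have hz' : B.πP U z' = P.obj.map r.op p' := (B.πP_add₂ _ _ _ _).trans hz
      have hq' : B.πQ U x' = B.πQ U z' := by rw [B.πQ_add₂, B.πQ_add₂, h, h']
      have ea : B.πP U (B.add₁ U x z h) = P.obj.map r.op (p + p') := by rw [B.πP_add₁, hx, hz, map_add]
      have eb : B.πP U (B.add₁ U y s h') = P.obj.map r.op (p + p') := by rw [B.πP_add₁, hy, hs, map_add]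
      have hv : t.val r (B.add₁ U x' z' hq') (by rw [B.πP_add₁, hx', hz', map_add]) - t₁.val r x' hx' -
            t₂.val r z' hz' =
          (t.val r (B.add₁ U x z h) ea - t₁.val r x hx - t₂.val r z hz) +
            (t.val r (B.add₁ U y s h') eb - t₁.val r y hy - t₂.val r s hs) := by
        rw [t.val_congr rfl (B.compat U x y z s (hx.trans hy.symm) (hz.trans hs.symm) h h'),
          t.val_add r _ _ ea eb, t₁.val_add r x y hx hy, t₂.val_add r z s hz hs]
        abel
      refine ⟨B.E.obj.map g.op x', B.E.obj.map g.op z', by rw [B.πP_map, hx', mapComp],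
        by rw [B.πP_map, hz', mapComp], by rw [B.πQ_map, B.πQ_map, hq'], by rw [B.πQ_map, B.πQ_add₂], ?_⟩
      rw [← hv, map_sub, map_sub, t.val_nat, t₁.val_nat, t₂.val_nat, t.val_congr rfl (B.add₁_map g x' z' hq').symm])
  have e : chi w B t = chi w B t₁ + chi w B t₂ + d ≫ (J.overPullback AddCommGrpCat.{u + 1} T).map π := by
    refine hom_ext_at fun U r q => ?_
    obtain ⟨S, hS, hl⟩ := B.locallySurjective U (P.obj.map r.op p) q
    obtain ⟨S', hS', hl'⟩ := B.locallySurjective U (P.obj.map r.op p') q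
    refine extG K (J.intersection_covering hS hS') _ _ fun V g hg => ?_
    obtain ⟨x, h1, h2⟩ := hl g hg.1
    obtain ⟨z, h3, h4⟩ := hl' g hg.2
    have hx : B.πP V x = P.obj.map (g ≫ r).op p := by rw [h1, mapComp]
    have hz : B.πP V z = P.obj.map (g ≫ r).op p' := by rw [h3, mapComp]
    have hq : B.πQ V x = B.πQ V z := h2.trans h4.symm
    have hxz : B.πP V (B.add₁ V x z hq) = P.obj.map (g ≫ r).op (p + p') := by rw [B.πP_add₁, hx, hz, map_add]
    rw [appAt_nat, appAt_nat, ← h2]
    show appAt (chi w B t) (g ≫ r) (B.πQ V x) =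
      appAt (chi w B t₁) (g ≫ r) (B.πQ V x) + appAt (chi w B t₂) (g ≫ r) (B.πQ V x) + appAt (d ≫ _) (g ≫ r) _
    rw [appAt_comp, hd V _ _ _ ⟨x, z, hx, hz, hq, rfl, rfl⟩, chi_spec w B t₁ _ x hx]
    rw [hq, chi_spec w B t₂ _ z hz, ← hq, ← B.πQ_add₁ V x z hq, chi_spec w B t _ _ hxz, map_sub, map_sub]
    abel
  rw [e, cls_add, cls_add, cls_comp, add_zero]

variable [HasPullbacks C] [HasEqualizers C] [Injective I]

/-- The map sending a section to the class of its fibre. -/
def phi : P ⟶ Cq Q π :=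
  ⟨{ app := fun T => AddCommGrpCat.ofHom (AddMonoidHom.mk'
        (fun p => cls Q π T.unop (chi w B (nonempty_triv B i T.unop p).some))
        (fun p p' => cls_chi_add w B _ _ _))
     naturality := fun T T' f => AddCommGrpCat.ext fun p => by
      show cls Q π T'.unop (chi w B (nonempty_triv B i T'.unop (P.obj.map f.unop.op p)).some) =
        (Cq Q π).obj.map f.unop.op (cls Q π T.unop (chi w B (nonempty_triv B i T.unop p).some))
      rw [cls_chi_eq w B _ ((nonempty_triv B i T.unop p).some.restr f.unop), ← overMap_chi]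
      exact ConcreteCategory.congr_hom
        ((cokernel.π ((HomSh.homShFunctor J Q).map π)).hom.naturality f.unop.op)
        (chi w B (nonempty_triv B i T.unop p).some) }⟩

/-- If the classes vanish, the fibres split locally. -/
theorem exists_spl_of_phi_eq_zero (hS : (ShortComplex.mk i π w).ShortExact) (h : phi w B = 0)
    (T : C) (p : P.obj.obj (op T)) :
    ∃ S ∈ J T, ∀ (V : C) (f : V ⟶ T), S f → ∃ σ, IsSpl B V (P.obj.map f.op p) σ := by
  let t := (nonempty_triv B i T p).some
  have hz : cls Q π T (chi w B t) = 0 :=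
    ConcreteCategory.congr_hom (NatTrans.congr_app (congrArg (sheafToPresheaf J AddCommGrpCat.{u + 1}).map h) (op T)) p
  refine ⟨_, imageSieve_mem_of_exact (ShortComplex.exact_cokernel ((HomSh.homShFunctor J Q).map π)) T
    (chi w B t : (HomSh.homSh J Q K).obj.obj (op T)) hz, fun V f hf => ?_⟩
  obtain ⟨ψ, hψ⟩ := hf
  let s := t.restr f
  let ψ' : Q.over V ⟶ I.over V := ψ
  have hψ' : ψ' ≫ (J.overPullback AddCommGrpCat.{u + 1} V).map π = chi w B s := by
    rw [← overMap_chi w B f t]
    change (J.overPullback _ V).map (𝟙 Q) ≫ ψ' ≫ (J.overPullback _ V).map π = _ at hψ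
    rw [CategoryTheory.Functor.map_id, Category.id_comp] at hψ
    exact hψ
  haveI := hS.mono_f
  have hinj : ∀ (U : C), Function.Injective (i.hom.app (op U)) := fun U => by
    haveI : Mono ((sheafToPresheaf J AddCommGrpCat.{u + 1}).map i) := inferInstance
    exact (AddCommGrpCat.mono_iff_injective _).1
      (inferInstance : Mono (((sheafToPresheaf J AddCommGrpCat.{u + 1}).map i).app (op U)))
  let R : ∀ (U : C), (U ⟶ V) → Q.obj.obj (op U) → B.E.obj.obj (op U) → Prop := fun U r q x =>
    ∃ hx : B.πP U x = P.obj.map r.op (P.obj.map f.op p), B.πQ U x = q ∧ s.val r x hx = appAt ψ' r q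
  have huniq : ∀ U r q x y, R U r q x → R U r q y → x = y := by
    rintro U r q x y ⟨hx, hq, ex⟩ ⟨hy, hq', ey⟩
    obtain ⟨g, rfl, -⟩ := B.existsUnique_act U x y (hx.trans hy.symm) (hq.trans hq'.symm)
    rw [s.val_act r g x hx, ex] at ey
    rw [hinj U ((add_eq_right.1 ey).trans (map_zero (i.hom.app (op U)).hom).symm), B.zero_act]
  have hres : ∀ (U W : C) (r : U ⟶ V) (g : W ⟶ U) q x, R U r q x →
      R W (g ≫ r) (Q.obj.map g.op q) (B.E.obj.map g.op x) := by
    rintro U W r g q x ⟨hx, rfl, ex⟩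
    exact ⟨by rw [B.πP_map, hx, ← mapComp], B.πQ_map g x,
      (s.val_nat g r x hx).symm.trans ((congrArg (I.obj.map g.op) ex).trans (appAt_nat ψ' g r _))⟩
  have hex : ∀ (U : C) (r : U ⟶ V) (q : Q.obj.obj (op U)), ∃ x, R U r q x := fun U r q => by
    obtain ⟨S, hS', hl⟩ := B.locallySurjective U (P.obj.map r.op (P.obj.map f.op p)) q
    obtain ⟨y, hy⟩ := glue B.E hS' (fun W g x => R W (g ≫ r) (Q.obj.map g.op q) x)
      (fun W g x x' => huniq W _ _ x x')
      (fun W Z g e x hx => by
        have h2 := hres W Z _ e _ x hx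
        rwa [← Category.assoc, ← mapComp] at h2)
      (fun W g hg => by
        obtain ⟨x, h1, h2⟩ := hl g hg
        have hx : B.πP W x = P.obj.map (g ≫ r).op (P.obj.map f.op p) := by rw [h1, ← mapComp]
        have hk : π.hom.app (op W) (s.val (g ≫ r) x hx - appAt ψ' (g ≫ r) (Q.obj.map g.op q)) = 0 := by
          rw [map_sub, ← chi_spec w B s (g ≫ r) x hx, ← appAt_comp (π := π), hψ', h2, sub_self]
        obtain ⟨a, ha⟩ := sect_exact hS.exact W _ hk
        refine ⟨B.act W (-a) x, (B.πP_act _ _ _).trans hx, (B.πQ_act _ _ _).trans h2, ?_⟩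
        rw [s.val_act (g ≫ r) (-a) x hx, map_neg, show i.hom.app (op W) a = _ from ha]
        abel)
    refine ⟨y, extG P hS' _ _ fun W g hg => ?_, extG Q hS' _ _ fun W g hg => ?_, extG I hS' _ _ fun W g hg => ?_⟩
    · rw [← B.πP_map, (hy W g hg).1, mapComp]
    · rw [← B.πQ_map, (hy W g hg).2.1]
    · obtain ⟨h1, h2, h3⟩ := hy W g hg
      rw [appAt_nat]
      exact (s.val_nat g r y _).trans h3
  choose σ hσ using hex
  exact ⟨σ, {
    hP := fun U r q => (hσ U r q).1
    hQ := fun U r q => (hσ U r q).2.1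
    nat := fun U W g r q => huniq W _ _ _ _ (hres _ _ _ g _ _ (hσ U r q)) (hσ W _ _)
    add := fun U r q q' => by
      obtain ⟨hx, hq, ex⟩ := hσ U r q
      obtain ⟨hy, hq', ey⟩ := hσ U r q'
      refine huniq U r (q + q') _ _ (hσ U r _) ⟨(B.πP_add₂ _ _ _ _).trans hx, by rw [B.πQ_add₂, hq, hq'], ?_⟩
      rw [s.val_add r _ _ hx hy, ex, ey, map_add] }⟩

end cls

end Groth.Agent.BiextSeq8

end
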