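import Groth.Agent.Lib.BiextSeq8.Phi

/-!
# The group of fibre splittings
-/

set_option autoImplicit false
set_option linter.style.haveILetI false
set_option linter.unusedSectionVars false
set_option maxHeartbeats 800000
set_option backward.isDefEq.respectTransparency false
set_option backward.isDefEq.respectTransparency.types false

universe u

open CategoryTheory CategoryTheory.Limits Opposite

noncomputable section

namespace Groth.Agent.BiextSeq8

variable {C : Type (u + 1)} [Category.{u} C] {J : GrothendieckTopology C}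
variable {P Q G : Sheaf J AddCommGrpCat.{u + 1}}

/-- Combine two elements above one section of the first factor along the second law. -/
def pair (B : Biext J P Q G) {U : C} {q q' : Q.obj.obj (op U)} (a : Fib (swap B) U q) (b : Fib (swap B) U q')
    (h : B.πP U a.x = B.πP U b.x) : Fib (swap B) U (q + q') :=
  ⟨B.add₂ U a.x b.x h, (B.πQ_add₂ U a.x b.x h).trans (congrArg₂ (· + ·) a.hx b.hx)⟩

variable {B : Biext J P Q G}

theorem πP_zero (U : C) (q : Q.obj.obj (op U)) : B.πP U (0 : Fib (swap B) U q).x = 0 :=
  Fib.πQ_eq_zero (B := swap B) Fib.zero_spec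

theorem πP_add (U : C) {q : Q.obj.obj (op U)} (a b : Fib (swap B) U q) :
    B.πP U (a + b).x = B.πP U a.x + B.πP U b.x := B.πP_add₁ U a.x b.x _

theorem pair_add {U : C} {q q' : Q.obj.obj (op U)} (a a' : Fib (swap B) U q) (b b' : Fib (swap B) U q')
    (h : B.πP U a.x = B.πP U b.x) (h' : B.πP U a'.x = B.πP U b'.x) :
    pair B (a + a') (b + b') (by rw [πP_add, πP_add, h, h']) = pair B a b h + pair B a' b' h' :=
  Fib.ext (B.compat U a.x b.x a'.x b'.x h h' (a.hx.trans a'.hx.symm) (b.hx.trans b'.hx.symm)).symm

theorem pair_congr {U : C} {q q' : Q.obj.obj (op U)} {a a' : Fib (swap B) U q} {b b' : Fib (swap B) U q'}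
    (ha : a = a') (hb : b = b') (h : B.πP U a.x = B.πP U b.x) :
    pair B a b h = pair B a' b' (ha ▸ hb ▸ h) := by subst ha; subst hb; rfl

theorem pair_zero (U : C) (q q' : Q.obj.obj (op U)) :
    pair B (0 : Fib (swap B) U q) (0 : Fib (swap B) U q') ((πP_zero U q).trans (πP_zero U q').symm) = 0 := by
  have h := pair_add (B := B) (0 : Fib (swap B) U q) 0 (0 : Fib (swap B) U q') 0
    ((πP_zero U q).trans (πP_zero U q').symm) ((πP_zero U q).trans (πP_zero U q').symm)
  refine add_eq_left.1 (h.symm.trans ?_)
  exact pair_congr (add_zero _) (add_zero _) _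

variable (B) in
/-- A section of the first factor with a splitting of the fibre above it. -/
@[ext]
structure Spl (T : C) : Type (u + 1) where
  p : P.obj.obj (op T)
  σ : ∀ (U : C), (U ⟶ T) → Q.obj.obj (op U) → B.E.obj.obj (op U)
  hσ : IsSpl B T p σ

namespace Spl

variable {T : C}

/-- The value as an element of the group over a section of the second factor. -/
def el (s : Spl B T) (U : C) (r : U ⟶ T) (q : Q.obj.obj (op U)) : Fib (swap B) U q := ⟨s.σ U r q, s.hσ.hQ U r q⟩

theorem πP_el (s : Spl B T) (U : C) (r : U ⟶ T) (q : Q.obj.obj (op U)) :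
    B.πP U (s.el U r q).x = P.obj.map r.op s.p := s.hσ.hP U r q

theorem el_add (s : Spl B T) (U : C) (r : U ⟶ T) (q q' : Q.obj.obj (op U)) :
    s.el U r (q + q') = pair B (s.el U r q) (s.el U r q') ((s.πP_el U r q).trans (s.πP_el U r q').symm) :=
  Fib.ext (s.hσ.add U r q q')

/-- A family in the groups over the sections of the second factor gives a splitting. -/
def mk' (p : P.obj.obj (op T)) (e : ∀ (U : C), (U ⟶ T) → ∀ q : Q.obj.obj (op U), Fib (swap B) U q)
    (hP : ∀ U r q, B.πP U (e U r q).x = P.obj.map r.op p)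
    (hnat : ∀ (U V : C) (g : V ⟶ U) (r : U ⟶ T) q, Fib.resHom g rfl (e U r q) = e V (g ≫ r) (Q.obj.map g.op q))
    (hadd : ∀ U r q q', e U r (q + q') = pair B (e U r q) (e U r q') ((hP U r q).trans (hP U r q').symm)) :
    Spl B T :=
  ⟨p, fun U r q => (e U r q).x,
    { hP := hP
      hQ := fun U r q => (e U r q).hx
      nat := fun U V g r q => congrArg Fib.x (hnat U V g r q)
      add := fun U r q q' => congrArg Fib.x (hadd U r q q') }⟩

theorem el_nat (s : Spl B T) (U V : C) (g : V ⟶ U) (r : U ⟶ T) (q : Q.obj.obj (op U)) :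
    Fib.resHom g rfl (s.el U r q) = s.el V (g ≫ r) (Q.obj.map g.op q) := Fib.ext (s.hσ.nat U V g r q)

instance : Add (Spl B T) :=
  ⟨fun s t => mk' (s.p + t.p) (fun U r q => s.el U r q + t.el U r q)
    (fun U r q => by rw [πP_add, πP_el, πP_el, map_add])
    (fun U V g r q => by rw [map_add, el_nat, el_nat])
    (fun U r q q' => by
      rw [s.el_add U r q q', t.el_add U r q q']
      exact (pair_add _ _ _ _ _ _).symm)⟩

instance : Zero (Spl B T) :=
  ⟨mk' 0 (fun U _ q => 0) (fun U r q => by rw [πP_zero, map_zero]) (fun U V g r q => map_zero _)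
    (fun U r q q' => (pair_zero U q q').symm)⟩

instance : Neg (Spl B T) :=
  ⟨fun s => mk' (-s.p) (fun U r q => - s.el U r q)
    (fun U r q => by
      have h := πP_add (B := B) U (- s.el U r q) (s.el U r q)
      rw [neg_add_cancel, πP_zero, πP_el] at h
      rw [map_neg]
      exact eq_neg_of_add_eq_zero_left h.symm)
    (fun U V g r q => by rw [map_neg, el_nat])
    (fun U r q q' => by
      have hn : B.πP U (- s.el U r q).x = B.πP U (- s.el U r q').x := by
        have h := πP_add (B := B) U (- s.el U r q) (s.el U r q)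
        have h' := πP_add (B := B) U (- s.el U r q') (s.el U r q')
        rw [neg_add_cancel, πP_zero, πP_el] at h h'
        exact add_right_cancel (h.symm.trans h')
      refine neg_eq_of_add_eq_zero_left ?_
      show pair B (- s.el U r q) (- s.el U r q') hn + s.el U r (q + q') = 0
      rw [s.el_add U r q q', ← pair_add]
      exact (pair_congr (neg_add_cancel _) (neg_add_cancel _) _).trans (pair_zero U q q'))⟩

theorem add_el (s t : Spl B T) (U : C) (r : U ⟶ T) (q : Q.obj.obj (op U)) :
    (s + t).el U r q = s.el U r q + t.el U r q := rfl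

theorem ext_el {s t : Spl B T} (hp : s.p = t.p)
    (h : ∀ (U : C) (r : U ⟶ T) (q : Q.obj.obj (op U)), s.el U r q = t.el U r q) : s = t :=
  Spl.ext hp (funext fun U => funext fun r => funext fun q => congrArg Fib.x (h U r q))

theorem add_assoc' (a b c : Spl B T) : a + b + c = a + (b + c) :=
  ext_el (add_assoc a.p b.p c.p) fun U r q => add_assoc (a.el U r q) (b.el U r q) (c.el U r q)

theorem zero_add' (a : Spl B T) : 0 + a = a :=
  ext_el (zero_add a.p) fun U r q => zero_add (a.el U r q)

theorem add_comm' (a b : Spl B T) : a + b = b + a :=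
  ext_el (add_comm a.p b.p) fun U r q => add_comm (a.el U r q) (b.el U r q)

theorem neg_add' (a : Spl B T) : -a + a = 0 :=
  ext_el (neg_add_cancel a.p) fun U r q => neg_add_cancel (a.el U r q)

instance : AddCommGroup (Spl B T) where
  add_assoc := add_assoc'
  zero_add := zero_add'
  add_zero a := (add_comm' a 0).trans (zero_add' a)
  nsmul := nsmulRec
  zsmul := zsmulRec
  neg_add_cancel := neg_add'
  add_comm := add_comm'

/-- Restriction. -/
def res {T' : C} (f : T' ⟶ T) : Spl B T →+ Spl B T' :=
  AddMonoidHom.mk' (fun s => ⟨P.obj.map f.op s.p, fun U r q => s.σ U (r ≫ f) q,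
    { hP := fun U r q => (s.hσ.hP U (r ≫ f) q).trans (mapComp P f r s.p)
      hQ := fun U r q => s.hσ.hQ U (r ≫ f) q
      nat := fun U V g r q => (s.hσ.nat U V g (r ≫ f) q).trans
        (congrArg (fun x => s.σ V x (Q.obj.map g.op q)) (Category.assoc g r f).symm)
      add := fun U r q q' => s.hσ.add U (r ≫ f) q q' }⟩)
    fun s t => ext_el (map_add _ s.p t.p) fun U r q => rfl

end Spl

variable (B) in
/-- The presheaf of fibre splittings. -/
def splPre : Cᵒᵖ ⥤ AddCommGrpCat.{u + 1} where
  obj T := AddCommGrpCat.of (Spl B T.unop)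
  map f := AddCommGrpCat.ofHom (Spl.res f.unop)
  map_id T := AddCommGrpCat.ext fun s => Spl.ext (mapId P s.p)
    (funext fun U => funext fun r => funext fun q => congrArg (fun x => s.σ U x q) (Category.comp_id r))
  map_comp f g := AddCommGrpCat.ext fun s => Spl.ext (mapComp P f.unop g.unop s.p)
    (funext fun U => funext fun r => funext fun q => congrArg (fun x => s.σ U x q) (Category.assoc r g.unop f.unop).symm)

variable (B) in
/-- The projection. -/
def splProj : splPre B ⟶ P.obj where
  app T := AddCommGrpCat.ofHom (AddMonoidHom.mk' (fun s : Spl B T.unop => s.p) fun _ _ => rfl)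

/-- The splitting over zero attached to a morphism. -/
def splOfHom {T : C} (h : Q.over T ⟶ G.over T) : Spl B T :=
  Spl.mk' 0 (fun U r q => Fib.ofG (appAt h r q))
    (fun U r q => by
      show B.πP U (B.act U _ _) = _
      rw [B.πP_act, map_zero]
      exact πP_zero U q)
    (fun U V g r q => by rw [Fib.ofG_res, appAt_nat])
    (fun U r q q' => by
      rw [map_add]
      refine Fib.ext ?_
      show B.act U (appAt h r q + appAt h r q') (0 : Fib (swap B) U (q + q')).x =
        B.add₂ U (B.act U (appAt h r q) _) (B.act U (appAt h r q') _) _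
      have hh : B.πP U (0 : Fib (swap B) U q).x = B.πP U (0 : Fib (swap B) U q').x :=
        (πP_zero U q).trans (πP_zero U q').symm
      rw [B.add₂_act U (appAt h r q) (0 : Fib (swap B) U q).x _ (hh.trans (B.πP_act U _ _).symm),
        add₂_act' B U (appAt h r q') _ _ hh, B.add_act]
      exact congrArg (fun x => B.act U (appAt h r q) (B.act U (appAt h r q') x))
        (congrArg Fib.x (pair_zero (B := B) U q q')).symm)

variable (B) in
/-- The inclusion of the morphisms from the second factor to the structure group. -/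
def splIncl : (HomSh.homSh J Q G).obj ⟶ splPre B where
  app T := AddCommGrpCat.ofHom (AddMonoidHom.mk' (fun h : Q.over T.unop ⟶ G.over T.unop => splOfHom h)
    fun h h' => Spl.ext_el (zero_add (0 : P.obj.obj (op T.unop))).symm fun U r q =>
      map_add Fib.ofG (appAt h r q) (appAt h' r q))
  naturality T T' f := AddCommGrpCat.ext fun h => Spl.ext_el (map_zero (P.obj.map f.unop.op).hom).symm
    fun U r q => rfl

theorem splIncl_proj : splIncl B ≫ splProj B = 0 :=
  NatTrans.ext (funext fun T => AddCommGrpCat.ext fun h => rfl)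

theorem splIncl_injective (T : C) : Function.Injective ((splIncl B).app (op T)) := fun h h' e =>
  hom_ext_at fun U r q => Fib.ofG_injective (B := swap B) (p := q)
    (congrArg (fun s : Spl B T => s.el U r q) e)

theorem splIncl_exact (T : C) (s : Spl B T) (hs : s.p = 0) : ∃ h, (splIncl B).app (op T) h = s := by
  obtain ⟨χ, hχ⟩ := exists_hom_of_rel (Q := Q) (L := G) T
    (fun U r q g => (Fib.ofG g : Fib (swap B) U q) = s.el U r q)
    (fun U r q l l' h h' => Fib.ofG_injective (h.trans h'.symm))
    (fun U V r g q l h => by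
      rw [← Fib.ofG_res (B := swap B) g rfl l, h, Spl.el_nat])
    (fun U r q => ⟨⊤, J.top_mem U, fun V g _ => by
      obtain ⟨a, ha, -⟩ := B.existsUnique_act V (0 : Fib (swap B) V (Q.obj.map g.op q)).x
        (s.el V (g ≫ r) (Q.obj.map g.op q)).x
        (by rw [πP_zero, Spl.πP_el, hs, map_zero]) (by
          exact (0 : Fib (swap B) V (Q.obj.map g.op q)).hx.trans (s.el V (g ≫ r) (Q.obj.map g.op q)).hx.symm)
      exact ⟨a, Fib.ext ha⟩⟩)
    (fun U r q q' l l' h h' => ⟨⊤, J.top_mem U, fun V g _ => by
      rw [← Fib.ofG_res (B := swap B) (p := q + q') g rfl (l + l')]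
      rw [← Spl.el_nat]
      refine congrArg (Fib.resHom g rfl) ?_
      rw [s.el_add U r q q']
      refine Fib.ext ?_
      show B.act U (l + l') (0 : Fib (swap B) U (q + q')).x = B.add₂ U (s.el U r q).x (s.el U r q').x _
      have hh : B.πP U (0 : Fib (swap B) U q).x = B.πP U (0 : Fib (swap B) U q').x :=
        (πP_zero U q).trans (πP_zero U q').symm
      rw [add₂_congr B U _ (congrArg Fib.x h).symm (congrArg Fib.x h').symm]
      show _ = B.add₂ U (B.act U l _) (B.act U l' _) _
      rw [B.add₂_act U l (0 : Fib (swap B) U q).x _ (hh.trans (B.πP_act U _ _).symm),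
        add₂_act' B U l' _ _ hh, B.add_act]
      exact congrArg (fun x => B.act U l (B.act U l' x))
        (congrArg Fib.x (pair_zero (B := B) U q q')).symm⟩)
  refine ⟨χ, Spl.ext_el hs.symm fun U r q => ?_⟩
  obtain ⟨a, ha, -⟩ := B.existsUnique_act U (0 : Fib (swap B) U q).x (s.el U r q).x
    (by rw [πP_zero, Spl.πP_el, hs, map_zero])
    ((0 : Fib (swap B) U q).hx.trans (s.el U r q).hx.symm)
  have h : (Fib.ofG a : Fib (swap B) U q) = s.el U r q := Fib.ext ha
  show Fib.ofG (appAt χ r q) = _
  rw [hχ U r q a h, h]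

end Groth.Agent.BiextSeq8

end
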